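import Groth.Agent.CxOXLib.Open
import Groth.Agent.TildeDerLib.Push
import Groth.Agent.LocCohLib.Cech
import Groth.Agent.DCompCechLib.Torsion
import Groth.Agent.DualCxLib.Sch
import Groth.Agent.DCohRestrLib.Scheme
import Groth.Agent.ProjFormLib.QCohClass
import Mathlib.Algebra.Category.ModuleCat.Localization

/-!
# The extended Čech complex computes sections with support on an affine scheme
-/

set_option autoImplicit false
set_option linter.style.haveILetI false
set_option linter.unusedSectionVars false
set_option backward.isDefEq.respectTransparency false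
set_option maxHeartbeats 1000000
set_option synthInstance.maxHeartbeats 200000

universe u

open CategoryTheory CategoryTheory.Limits AlgebraicGeometry CategoryTheory.Pretriangulated
open Groth.Agent

attribute [local instance] HasDerivedCategory.standard

noncomputable section

namespace CechTildeLib

variable {A : Type u} [CommRing A]

/-- The complement of the zero locus of a list. -/
abbrev Us (fs : List A) : (Spec (CommRingCat.of A)).Opens := LocCoh.puncturedOpen A (Ideal.span {a | a ∈ fs})

theorem mem_Us {fs : List A} {x : Spec (CommRingCat.of A)} : x ∈ Us fs ↔ ∃ a ∈ fs, a ∉ x.asIdeal := by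
  show ¬ ((Ideal.span {a | a ∈ fs} : Ideal A) : Set A) ⊆ (x.asIdeal : Set A) ↔ _
  rw [SetLike.coe_subset_coe, Ideal.span_le, Set.not_subset]
  rfl

theorem range_Us (fs : List A) : Set.range (Us fs).ι.base = {x | ∃ a ∈ fs, a ∉ x.asIdeal} := by
  rw [Scheme.Opens.range_ι]
  exact Set.ext fun x => mem_Us

variable [PreservesFiniteLimits (tilde.functor (CommRingCat.of A))]

theorem isSuppD_tildeD_extCech (M : ModuleCat.{u} A) (fs : List A) :
    CxOX.IsSuppD (Us fs).ι ((DCoh.tildeD (CommRingCat.of A)).obj (DRing.toD (DerCA.extCech M fs))) := by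
  intro i x hx hxU
  rw [range_Us] at hxU
  obtain ⟨a, ha, hax⟩ := hxU
  refine hx ?_
  let e := TildeDerLib.tildeHIso (CommRingCat.of A) i (DRing.toD (DerCA.extCech M fs)) ≪≫
    (tilde.functor (CommRingCat.of A)).mapIso
      ((DerivedCategory.homologyFunctorFactors (ModuleCat.{u} A) i).app (DerCA.extCech M fs))
  refine (DCohRestrLib.subsingleton_stalk_of_iso e x).2 ?_
  haveI : Subsingleton (LocalizedModule x.asIdeal.primeCompl ((DerCA.extCech M fs).homology i)) := by
    refine LocalizedModule.subsingleton_iff.2 fun m => ?_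
    obtain ⟨n, -, hn⟩ := DCompCechLib.exists_pow_smul_eq_zero M fs i m
    exact ⟨a ^ n, fun h => hax (x.isPrime.mem_of_pow_mem n h), hn a ha⟩
  exact (DualCxLib.stalkTilde (CommRingCat.of A) ((DerCA.extCech M fs).homology i) x).symm.subsingleton

/-- Localisation at `g` comes by restriction of scalars. -/
def locRestrictIso (S : Submonoid A) :
    ModuleCat.localizedModuleFunctor.{u} S ⋙
      ModuleCat.restrictScalars.{u} (CommRingCat.ofHom (algebraMap A (Localization S))).hom ≅
      DerCA.locFunctor S :=
  NatIso.ofComponents (fun M =>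
    LinearEquiv.toModuleIso
      (X₁ := (ModuleCat.restrictScalars.{u} (CommRingCat.ofHom (algebraMap A (Localization S))).hom).obj (M.localizedModule S))
      { (IsLocalizedModule.linearEquiv S (M.localizedModuleMkLinearMap S) (LocalizedModule.mkLinearMap S M)).toAddEquiv with
        map_smul' := fun r (x : M.localizedModule S) => by
          show (IsLocalizedModule.linearEquiv S _ _) (algebraMap A (Localization S) r • x) =
            r • (IsLocalizedModule.linearEquiv S (M.localizedModuleMkLinearMap S) (LocalizedModule.mkLinearMap S M)) x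
          rw [algebraMap_smul, map_smul] })
    fun {M N} g => by
      refine ModuleCat.hom_ext (LinearMap.ext fun (x : M.localizedModule S) => ?_)
      show (IsLocalizedModule.linearEquiv S (N.localizedModuleMkLinearMap S) (LocalizedModule.mkLinearMap S N))
          ((ModuleCat.localizedModuleMap S g).hom x) =
        IsLocalizedModule.map S (LocalizedModule.mkLinearMap S M) (LocalizedModule.mkLinearMap S N) g.hom
          ((IsLocalizedModule.linearEquiv S (M.localizedModuleMkLinearMap S) (LocalizedModule.mkLinearMap S M)) x)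
      show (IsLocalizedModule.linearEquiv S (N.localizedModuleMkLinearMap S) (LocalizedModule.mkLinearMap S N))
          ((IsLocalizedModule.map S (M.localizedModuleMkLinearMap S) (N.localizedModuleMkLinearMap S)) g.hom x) = _
      have h : (IsLocalizedModule.linearEquiv S (N.localizedModuleMkLinearMap S)
            (LocalizedModule.mkLinearMap S N)).toLinearMap ∘ₗ
          IsLocalizedModule.map S (M.localizedModuleMkLinearMap S) (N.localizedModuleMkLinearMap S) g.hom =
        IsLocalizedModule.map S (LocalizedModule.mkLinearMap S M) (LocalizedModule.mkLinearMap S N) g.hom ∘ₗ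
          (IsLocalizedModule.linearEquiv S (M.localizedModuleMkLinearMap S) (LocalizedModule.mkLinearMap S M)).toLinearMap := by
        refine IsLocalizedModule.ext S (M.localizedModuleMkLinearMap S)
          (fun s => IsLocalizedModule.map_units (LocalizedModule.mkLinearMap S N) s) ?_
        refine LinearMap.ext fun m => ?_
        simp only [LinearMap.comp_apply, LinearEquiv.coe_coe, IsLocalizedModule.map_apply,
          IsLocalizedModule.linearEquiv_apply]
      exact LinearMap.congr_fun h x

theorem orth_tildeD_locCx (g : A) (fs : List A) (hg : g ∈ fs) (T : DRing.Cx A) :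
    CxOXLib.Orth (Us fs).ι
      ((DCoh.tildeD (CommRingCat.of A)).obj (DRing.toD ((DerCA.locCx (Submonoid.powers g)).obj T))) := by
  let S := Submonoid.powers g
  let B := CommRingCat.of (Localization S)
  let φ : CommRingCat.of A ⟶ B := CommRingCat.ofHom (algebraMap A (Localization S))
  haveI : IsLocalization.Away g (Localization S) := inferInstanceAs (IsLocalization S (Localization S))
  haveI : IsOpenImmersion (Spec.map φ) := IsOpenImmersion.of_isLocalization g
  haveI : PreservesFiniteLimits (tilde.functor B) := Groth.Agent.ProjFormLib.preservesFiniteLimits_tilde B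
  haveI : DCoh.HasRpush (Spec.map φ) := DCohRestrLib.hasRpush (Spec.map φ)
  obtain ⟨e⟩ := TildeDerLib.nonempty_rpushTildeDIso φ
  let L := ((ModuleCat.localizedModuleFunctor.{u} S).mapHomologicalComplex (ComplexShape.up ℤ)).obj T
  let ρ := ModuleCat.restrictScalars.{u} φ.hom
  let e' : (DCoh.Rpush (Spec.map φ)).obj ((DCoh.tildeD B).obj (DerivedCategory.Q.obj L)) ≅
      (DCoh.tildeD (CommRingCat.of A)).obj (DRing.toD ((DerCA.locCx S).obj T)) :=
    e.app (DerivedCategory.Q.obj L) ≪≫ (DCoh.tildeD (CommRingCat.of A)).mapIso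
      (ρ.mapDerivedCategoryFactors.app L ≪≫ DerivedCategory.Q.mapIso
        (HomologicalComplex.Hom.isoOfComponents (fun i => (locRestrictIso S).app (T.X i))
          (fun i j _ => ((locRestrictIso S).hom.naturality (T.d i j)).symm)))
  have h := (CxOXLib.orth_Rpush (Spec.map φ) ((DCoh.tildeD B).obj (DerivedCategory.Q.obj L))).of_iso e'
  intro K hK
  refine h K (CxOXLib.isSuppD_mono ?_ hK)
  rw [range_Us]
  intro x hx
  refine ⟨g, hg, ?_⟩
  have : x ∈ Set.range (PrimeSpectrum.comap (algebraMap A (Localization S))) := hx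
  rw [PrimeSpectrum.localization_away_comap_range (Localization S) g] at this
  exact this

theorem exists_comparison (M : ModuleCat.{u} A) : ∀ fs : List A,
    ∃ π : (DCoh.tildeD (CommRingCat.of A)).obj (DRing.toD (DerCA.extCech M fs)) ⟶
      (DCoh.tildeD (CommRingCat.of A)).obj (Dual.inD A M),
      ∀ K, CxOX.IsSuppD (Us fs).ι K → Function.Bijective fun a : K ⟶ _ => a ≫ π
  | [] => ⟨(DCoh.tildeD (CommRingCat.of A)).map ((DerivedCategory.singleFunctorIsoCompQ (ModuleCat.{u} A) 0).inv.app M),
      fun K _ => (asIso ((DCoh.tildeD (CommRingCat.of A)).map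
        ((DerivedCategory.singleFunctorIsoCompQ (ModuleCat.{u} A) 0).inv.app M))).homToEquiv.bijective⟩
  | f :: fs => by
    obtain ⟨π, hπ⟩ := exists_comparison M fs
    let φ := DerCA.locCxUnit (Submonoid.powers f) (DerCA.extCech M fs)
    let T := (DCoh.tildeD (CommRingCat.of A)).mapTriangle.obj
      (DerivedCategory.Q.mapTriangle.obj (CochainComplex.mappingCocone.triangle φ))
    have hT : T ∈ distinguishedTriangles :=
      (DCoh.tildeD (CommRingCat.of A)).map_distinguished _ (DerivedCategory.mappingCocone_triangle_distinguished φ)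
    have h₃ : CxOXLib.Orth (Us (f :: fs)).ι T.obj₃ :=
      orth_tildeD_locCx f (f :: fs) List.mem_cons_self (DerCA.extCech M fs)
    refine ⟨T.mor₁ ≫ π, fun K hK => ?_⟩
    have hK' : CxOX.IsSuppD (Us fs).ι K := CxOXLib.isSuppD_mono (by
      rw [range_Us, range_Us]
      exact fun x ⟨a, ha, hax⟩ => ⟨a, List.mem_cons_of_mem _ ha, hax⟩) hK
    have h1 : Function.Bijective fun a : K ⟶ T.obj₁ => a ≫ T.mor₁ :=
      Function.bijective_iff_existsUnique _ |>.2 fun g => CxOXLib.existsUnique_lift hT h₃ hK g
    have h2 := (hπ K hK').comp h1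
    exact (show (fun a : K ⟶ T.obj₁ => a ≫ T.mor₁ ≫ π) = (fun b => b ≫ π) ∘ fun a => a ≫ T.mor₁ from
      funext fun a => (Category.assoc _ _ _).symm) ▸ h2

theorem nonempty_iso_RgammaZ (M : ModuleCat.{u} A) (fs : List A) [CxOX.HasRgammaZ (Us fs).ι] :
    Nonempty ((DCoh.tildeD (CommRingCat.of A)).obj (DRing.toD (DerCA.extCech M fs)) ≅
      (CxOX.RgammaZ (Us fs).ι).obj ((DCoh.tildeD (CommRingCat.of A)).obj (Dual.inD A M))) := by
  obtain ⟨π, hπ⟩ := exists_comparison M fs
  let X₀ := (DCoh.tildeD (CommRingCat.of A)).obj (Dual.inD A M)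
  let ε := (CxOX.RgammaZToId (Us fs).ι).app X₀
  have hC := isSuppD_tildeD_extCech M fs
  have hR := CxOXLib.isSuppD_RgammaZ (Us fs) X₀
  obtain ⟨a, ha, -⟩ := CxOXLib.existsUnique_toId (Us fs) X₀ _ hC π
  obtain ⟨b, hb⟩ := (hπ _ hR).2 ε
  replace hb : b ≫ π = ε := hb
  refine ⟨⟨a, b, (hπ _ hC).1 ?_, (CxOXLib.existsUnique_toId (Us fs) X₀ _ hR ε).unique ?_ (Category.id_comp _)⟩⟩
  · show (a ≫ b) ≫ π = 𝟙 _ ≫ π
    rw [Category.assoc, hb, ha, Category.id_comp]
  · rw [Category.assoc, ha, hb]

end CechTildeLib

end
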